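import Groth.Agent.PrincBundLib.Descends
import Groth.Agent.FEtLib.Normal
import Groth.Agent.BirNormal.Basic
import Groth.Agent.GrpSchLib.Component
import Groth.Agent.FpqcDesc.Basic
import Groth.Agent.NormalSch.SectionExt
import Groth.Prelude.Def_ActBC
import Mathlib

/-!
# Generic points of étale torsors over normal schemes extend to sections
-/

set_option linter.style.haveILetI false
set_option backward.isDefEq.respectTransparency false

universe u

open CategoryTheory CategoryTheory.Limits MonoidalCategory CartesianMonoidalCategory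
  AlgebraicGeometry TopologicalSpace

noncomputable section

namespace Groth.Agent.TorsorEtaleExt

/-- Base changes of a quasi-finite scheme over a field are specializing over the base. -/
theorem specializing_baseChange {k : Type u} [Field k] {G U : Scheme.{u}}
    (gk : G ⟶ Spec (CommRingCat.of k)) [LocallyQuasiFinite gk]
    (t : U ⟶ Spec (CommRingCat.of k)) {P : Scheme.{u}} {π₁ : P ⟶ G} {π₂ : P ⟶ U}
    (h : IsPullback π₁ π₂ gk t) (p₀ : P) (u : U) (hu : π₂ p₀ ⤳ u) : ∃ p, p₀ ⤳ p ∧ π₂ p = u := by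
  obtain ⟨_, ⟨V : G.Opens, hV, rfl⟩, hpV, -⟩ :=
    G.isBasis_affineOpens.exists_subset_of_mem_open (Set.mem_univ (π₁ p₀)) isOpen_univ
  haveI : IsAffine (V : Scheme.{u}) := hV
  haveI : QuasiCompact (V.ι ≫ gk) := inferInstance
  haveI : IsLocallyArtinian (Spec (CommRingCat.of k)) := inferInstance
  haveI : IsFinite (V.ι ≫ gk) := IsFinite.of_locallyQuasiFinite _
  have hsq : IsPullback (π₁ ∣_ V) ((π₁ ⁻¹ᵁ V).ι ≫ π₂) (V.ι ≫ gk) t :=
    ((isPullback_morphismRestrict π₁ V).flip.flip.paste_vert h)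
  haveI : IsFinite ((π₁ ⁻¹ᵁ V).ι ≫ π₂) := MorphismProperty.of_isPullback hsq inferInstance
  obtain ⟨p, hp, hpu⟩ := ((π₁ ⁻¹ᵁ V).ι ≫ π₂).isClosedMap.specializingMap
    (show ((π₁ ⁻¹ᵁ V).ι ≫ π₂) (⟨p₀, hpV⟩ : (π₁ ⁻¹ᵁ V).toScheme) ⤳ u by
      rw [Scheme.Hom.comp_apply]; exact hu)
  exact ⟨(π₁ ⁻¹ᵁ V).ι p, hp.map (π₁ ⁻¹ᵁ V).ι.continuous, by rw [← Scheme.Hom.comp_apply]; exact hpu⟩

variable {k : Type u} [Field k] (G : Over (Spec (CommRingCat.of k))) [GrpObj G] [Etale G.hom]
  {S : Scheme.{u}} [IsIntegral S] (s : S ⟶ Spec (CommRingCat.of k))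

theorem isSeparated_of_torsor {X : Over S} (a : AlgGrp.Action (Red.bc s G) X)
    (ha : NonAbH1.IsTorsorFor Scheme.fpqcPrecoverage a) : IsSeparated X.hom ∧ Etale X.hom := by
  haveI := Groth.Agent.FpqcDesc.isSeparated_descends.{u}
  haveI : IsSeparated G.hom := Groth.Agent.GrpSchLib.isSeparated_hom
  haveI : IsSeparated (Red.bc s G).hom := by show IsSeparated (pullback.snd G.hom s); infer_instance
  haveI : Etale (Red.bc s G).hom := by show Etale (pullback.snd G.hom s); infer_instance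
  exact ⟨Groth.Agent.PrincBundLib.property_of_torsor @IsSeparated a ha inferInstance,
    Groth.Agent.PrincBundLib.property_of_torsor @Etale a ha inferInstance⟩

theorem exists_open_integral (hS : Pi1.IsNormalScheme S) {W : Scheme.{u}} (f : W ⟶ S) [Etale f]
    (ξ : W) (hξ : f ξ = genericPoint S) : IsOpen {w : W | ξ ⤳ w} := by
  haveI : LocallyQuasiFinite f := Groth.Agent.Unibranch.locallyQuasiFinite_of_unramified f
  refine isOpen_iff_forall_mem_open.mpr fun w hw => ?_
  obtain ⟨_, ⟨U : S.Opens, hU, rfl⟩, hwU, -⟩ :=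
    S.isBasis_affineOpens.exists_subset_of_mem_open (Set.mem_univ (f w)) isOpen_univ
  obtain ⟨_, ⟨V : W.Opens, hV, rfl⟩, hwV, hVU : V ≤ f ⁻¹ᵁ U⟩ :=
    W.isBasis_affineOpens.exists_subset_of_mem_open (show w ∈ (f ⁻¹ᵁ U : Set W) from hwU) (f ⁻¹ᵁ U).2
  haveI : IsAffine (V : Scheme.{u}) := hV
  haveI : IsAffine (U : Scheme.{u}) := hU
  have hηU : genericPoint S ∈ U := (genericPoint_specializes _).mem_open U.2 hwU
  have hfin : ((V : Set W) ∩ f ⁻¹' {genericPoint S}).Finite := by
    let r := f.resLE U V hVU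
    have hr : r ≫ U.ι = V.ι ≫ f := Scheme.Hom.resLE_comp_ι _ _
    haveI : LocallyQuasiFinite (r ≫ U.ι) := by rw [hr]; infer_instance
    haveI : LocallyQuasiFinite r := LocallyQuasiFinite.of_comp r U.ι
    refine ((r.finite_preimage_singleton (⟨genericPoint S, hηU⟩ : U.toScheme)).image V.ι).subset ?_
    rintro z ⟨hzV, hz⟩
    refine ⟨⟨z, hzV⟩, Set.mem_preimage.mpr (Set.mem_singleton_iff.mpr ?_), rfl⟩
    apply U.ι.isOpenEmbedding.injective
    show U.ι (r ⟨z, hzV⟩) = _
    rw [← Scheme.Hom.comp_apply, hr, Scheme.Hom.comp_apply]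
    exact hz
  let T : Set W := ((V : Set W) ∩ f ⁻¹' {genericPoint S}) \ {ξ}
  have hcl : IsClosed (⋃ η ∈ T, closure ({η} : Set W)) :=
    (hfin.sdiff).isClosed_biUnion fun _ _ => isClosed_closure
  refine ⟨(V : Set W) \ ⋃ η ∈ T, closure ({η} : Set W), ?_, V.2.sdiff hcl, hwV, ?_⟩
  · rintro z ⟨hzV, hz⟩
    obtain ⟨η, hη, he⟩ := Flat.generalizingMap f (genericPoint_specializes (f z))
    by_cases h : η = ξ
    · exact h ▸ hη
    · exact absurd (Set.mem_biUnion (show η ∈ T from ⟨⟨hη.mem_open V.2 hzV, he⟩, h⟩) hη.mem_closure) hz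
  · intro h
    obtain ⟨η, ⟨⟨-, he⟩, hne⟩, hz⟩ := Set.mem_iUnion₂.mp h
    haveI := (Groth.Agent.Unibranch.normal_stalk_of_etale f w (hS _)).1
    have hmax : ∀ η : W, η ⤳ w → f η = genericPoint S →
        η = (W.fromSpecStalk w) (⟨⊥, Ideal.isPrime_bot⟩ : PrimeSpectrum _) := by
      intro η h e
      have hr : η ∈ Set.range (W.fromSpecStalk w) := by
        rw [Scheme.range_fromSpecStalk]; exact h
      obtain ⟨p, rfl⟩ := hr
      refine (Groth.Agent.Unibranch.max_of_map_eq_genericPoint f _ e _ ?_).symm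
      refine Specializes.map ?_ (W.fromSpecStalk w).continuous
      exact (PrimeSpectrum.le_iff_specializes _ _).1 bot_le
    exact hne ((hmax η (specializes_iff_mem_closure.mpr hz) he).trans (hmax ξ hw hξ).symm)

theorem exists_section (hS : Pi1.IsNormalScheme S) {X : Over S} (a : AlgGrp.Action (Red.bc s G) X)
    (ha : NonAbH1.IsTorsorFor Scheme.fpqcPrecoverage a)
    (x : Spec (S.residueField (genericPoint S)) ⟶ X.left)
    (hx : x ≫ X.hom = S.fromSpecResidueField (genericPoint S)) :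
    ∃ σ : S ⟶ X.left, σ ≫ X.hom = 𝟙 S ∧ S.fromSpecResidueField (genericPoint S) ≫ σ = x := by
  obtain ⟨_, _⟩ := isSeparated_of_torsor G s a ha
  let η := genericPoint S
  let pt : Spec (S.residueField η) := IsLocalRing.closedPoint _
  let ξ := x pt
  have hξ : X.hom ξ = η := by
    rw [← Scheme.Hom.comp_apply, hx]
    exact Scheme.fromSpecResidueField_apply _ _
  let C : X.left.Opens := ⟨_, exists_open_integral hS X.hom ξ hξ⟩
  have hξC : ξ ∈ C := specializes_rfl
  let g : (C : Scheme.{u}) ⟶ S := C.ι ≫ X.hom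
  haveI : LocallyQuasiFinite g := Groth.Agent.Unibranch.locallyQuasiFinite_of_unramified g
  have hn : ∀ c : (C : Scheme.{u}), _root_.IsDomain ((C : Scheme.{u}).presheaf.stalk c) := fun c =>
    (Groth.Agent.Unibranch.normal_stalk_of_etale g c (hS _)).1
  haveI : IsReduced (C : Scheme.{u}) := by
    haveI : ∀ c : (C : Scheme.{u}), _root_.IsReduced ((C : Scheme.{u}).presheaf.stalk c) := fun c => by
      haveI := hn c
      infer_instance
    exact isReduced_of_isReduced_stalk _
  let ξC : (C : Scheme.{u}) := ⟨ξ, hξC⟩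
  have hgenC : IsGenericPoint ξC (Set.univ : Set (C : Scheme.{u})) := by
    refine isGenericPoint_iff_specializes.mpr fun c => ⟨fun _ => trivial, fun _ => ?_⟩
    exact C.ι.isOpenEmbedding.isInducing.specializes_iff.mp c.2
  haveI : IrreducibleSpace (C : Scheme.{u}) := by
    have h := (isIrreducible_singleton (x := ξC)).closure
    rw [hgenC.def] at h
    haveI : Nonempty (C : Scheme.{u}) := ⟨ξC⟩
    exact { toPreirreducibleSpace := ⟨h.isPreirreducible⟩, toNonempty := inferInstance }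
  haveI : IsIntegral (C : Scheme.{u}) := isIntegral_of_irreducibleSpace_of_isReduced _
  have hgp : genericPoint (C : Scheme.{u}) = ξC := (genericPoint_spec _).eq hgenC
  let x' : Spec (S.residueField η) ⟶ C := IsOpenImmersion.lift C.ι x (by
    rw [C.range_ι]
    rintro _ ⟨z, rfl⟩
    rw [Subsingleton.elim z pt]
    exact hξC)
  have hx' : x' ≫ C.ι = x := IsOpenImmersion.lift_fac _ _ _
  have hx'g : x' ≫ g = S.fromSpecResidueField η := by rw [reassoc_of% hx', hx]
  have hx'pt : x' pt = genericPoint (C : Scheme.{u}) := by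
    rw [hgp]
    apply C.ι.isOpenEmbedding.injective
    show _ = ξ
    rw [← Scheme.Hom.comp_apply, hx']
  have hgen : g (genericPoint (C : Scheme.{u})) = η := by
    rw [hgp]
    exact hξ
  have hbir : IsIso (g.stalkMap (genericPoint (C : Scheme.{u}))) := by
    refine (ConcreteCategory.isIso_iff_bijective _).mpr ⟨?_, ?_⟩
    · haveI : IsDomain (S.presheaf.stalk (g (genericPoint (C : Scheme.{u})))) := (hS _).1
      have hF : IsField (S.presheaf.stalk (g (genericPoint (C : Scheme.{u})))) :=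
        hgen.symm ▸ Field.toIsField S.functionField
      letI := hF.toField
      exact (g.stalkMap (genericPoint (C : Scheme.{u}))).hom.injective
    · rw [← hx'pt]
      intro b
      have hs : Function.Surjective ((x' ≫ g).stalkMap pt) := by
        rw [Scheme.Hom.stalkMap_congr_hom _ _ hx'g]
        intro c
        obtain ⟨d, rfl⟩ := (S.fromSpecResidueField η).stalkMap_surjective pt c
        obtain ⟨e, rfl⟩ := (ConcreteCategory.bijective_of_isIso
          (S.presheaf.stalkCongr (.of_eq congr($hx'g pt))).hom).2 d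
        exact ⟨e, rfl⟩
      obtain ⟨d, hd⟩ := hs (x'.stalkMap pt b)
      refine ⟨d, ?_⟩
      rw [Scheme.Hom.stalkMap_comp, ConcreteCategory.comp_apply] at hd
      have hF : IsField ((C : Scheme.{u}).presheaf.stalk (x' pt)) :=
        hx'pt ▸ Field.toIsField (C : Scheme.{u}).functionField
      letI := hF.toField
      exact RingHom.injective (x'.stalkMap pt).hom hd
  haveI : IsLocalIso g := by
    refine ⟨fun c => ?_⟩
    obtain ⟨U, hcU, hU⟩ := Groth.Agent.BirNormal.exists_isOpenImmersion (fun y => (hS y).2) g hgen hbir c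
      (g.quasiFiniteAt c)
    exact ⟨U, hcU, hU⟩
  haveI : IsOpenImmersion g := Groth.Agent.BirNormal.isOpenImmersion_of_isSeparated g hgen
  have hsurj : Function.Surjective g := by
    intro s₀
    obtain ⟨R, hR, hsec⟩ := ha.2
    obtain ⟨K, P, c, rfl⟩ := R.exists_eq_ofArrows
    obtain ⟨-, hfl⟩ := hR
    obtain ⟨hcov, hflat⟩ := (Scheme.ofArrows_mem_precoverage_iff _).mp hfl
    obtain ⟨j, u, hu⟩ := hcov s₀
    haveI : Flat (c j) := hflat j
    obtain ⟨e₀, he₀⟩ := hsec _ (Presieve.ofArrows.mk j)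
    obtain ⟨u₀, hu₀, hu₀η⟩ := Flat.generalizingMap (c j) (genericPoint_specializes (c j u))
    let e : Over.mk (c j) ⟶ X := Over.homMk e₀ he₀
    haveI : IsIso (lift ((Red.bc s G ◁ e) ≫ a.act) (snd (Red.bc s G) (Over.mk (c j)))) :=
      (Groth.Agent.PrincBundLib.isIso_lift_snd_iff _).mpr fun T y w => by
        simp only [Groth.Agent.PrincBundLib.orbit_eq]
        exact (Groth.Agent.PrincBundLib.isIso_lift_snd_iff a.act).mp ha.1 T y _
    let Φ := asIso (lift ((Red.bc s G ◁ e) ≫ a.act) (snd (Red.bc s G) (Over.mk (c j))))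
    have hΦ : Φ.hom.left ≫ pullback.snd X.hom (c j) = pullback.snd (Red.bc s G).hom (c j) :=
      congrArg (fun m => m.left) (lift_snd ((Red.bc s G ◁ e) ≫ a.act) (snd (Red.bc s G) (Over.mk (c j))))
    haveI : IsIso Φ.hom.left := inferInstanceAs (IsIso ((Over.forget S).map Φ.hom))
    obtain ⟨q₀, hq₁, hq₂⟩ := Scheme.Pullback.exists_preimage_pullback ξ u₀
      (f := X.hom) (g := c j) (hξ.trans hu₀η.symm)
    obtain ⟨p₀, rfl⟩ := (Scheme.homeoOfIso (asIso Φ.hom.left)).surjective q₀
    have hp₀ : (pullback.snd (Red.bc s G).hom (c j)) p₀ = u₀ := by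
      rw [← hΦ, Scheme.Hom.comp_apply]
      exact hq₂
    haveI : LocallyQuasiFinite G.hom := Groth.Agent.Unibranch.locallyQuasiFinite_of_unramified _
    obtain ⟨p, hpp, hp⟩ := specializing_baseChange G.hom (c j ≫ s)
      ((IsPullback.of_hasPullback (Red.bc s G).hom (c j)).paste_horiz
        (IsPullback.of_hasPullback G.hom s))
      p₀ u (hp₀.symm ▸ hu₀)
    let w := (pullback.fst X.hom (c j)) (Φ.hom.left p)
    have hw : ξ ⤳ w := by
      have := hpp.map ((Φ.hom.left ≫ pullback.fst X.hom (c j)).continuous)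
      rw [Scheme.Hom.comp_apply, Scheme.Hom.comp_apply] at this
      exact hq₁ ▸ this
    refine ⟨⟨w, hw⟩, ?_⟩
    show X.hom w = s₀
    rw [← hu, ← hp, ← hΦ]
    simp only [Scheme.Hom.comp_apply]
    show X.hom (pullback.fst X.hom (c j) (Φ.hom.left p)) = _
    rw [← Scheme.Hom.comp_apply, pullback.condition, Scheme.Hom.comp_apply]
    rfl
  haveI : Surjective g := ⟨hsurj⟩
  haveI : IsIso g := isIso_of_isOpenImmersion_of_opensRange_eq_top _
    (TopologicalSpace.Opens.ext hsurj.range_eq)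
  refine ⟨inv g ≫ C.ι, by rw [Category.assoc]; exact IsIso.inv_hom_id g, ?_⟩
  rw [← hx'g, Category.assoc, IsIso.hom_inv_id_assoc, hx']

end Groth.Agent.TorsorEtaleExt
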